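import Groth.Prelude.Def_SchFin
import Groth.Agent.CAlg6.GeomTensor

/-!
Maps of trivial étale covers of well-connected finite spaces.
-/

set_option autoImplicit false
set_option linter.style.haveILetI false

noncomputable section

universe u

open SchFin

namespace Groth.Agent.SchFin99

attribute [local instance] RSpace.instOrder RSpace.instRing

theorem exists_map (X : RSpace.{u}) (hW : X.IsWellConnected) (F E : Type) [Finite F] [Finite E]
    (f : ∀ p : X.pt, (F → X.ring p) →ₐ[X.ring p] (E → X.ring p))
    (hf : ∀ (p q : X.pt) (h : p ≤ q) (g : F → X.ring p) (e : E),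
      X.res h (f p g e) = f q (fun i => X.res h (g i)) e) :
    ∃ φ : E → F, ∀ (p : X.pt) (g : F → X.ring p) (e : E), f p g e = g (φ e) := by
  classical
  cases nonempty_fintype F
  obtain ⟨hnt, hid⟩ := (CAlg6.connectedSpace_iff_idempotent (X.sectRing Set.univ)).1 hW.1
  have key : ∀ e : E, ∃ i : F, ∀ p : X.pt, f p (Pi.single i 1) e = 1 := by
    intro e
    let a : F → X.sectRing Set.univ := fun i => ⟨fun q => f q.1 (Pi.single i 1) e, fun q q' h => by
      rw [hf q.1 q'.1 h]
      refine congrArg (fun g => f q'.1 g e) ?_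
      ext j
      rcases eq_or_ne j i with rfl | hj <;> simp [*]⟩
    have h01 : ∀ i, a i = 0 ∨ a i = 1 := fun i => hid _ (by
      show a i * a i = a i
      ext q
      show f q.1 (Pi.single i 1) e * f q.1 (Pi.single i 1) e = _
      rw [← Pi.mul_apply, ← map_mul, ← Pi.single_mul, one_mul])
    have hsum : ∑ i, a i = 1 := by
      ext q
      rw [AddSubmonoidClass.coe_finsetSum, Finset.sum_apply]
      show ∑ i, f q.1 (Pi.single i 1) e = _
      rw [← Finset.sum_apply, ← map_sum, Finset.univ_sum_single]
      exact congrFun (map_one (f q.1)) e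
    obtain ⟨i, hi⟩ : ∃ i, a i ≠ 0 := by
      by_contra hne
      push Not at hne
      exact one_ne_zero (α := X.sectRing Set.univ) (by rw [← hsum]; exact Finset.sum_eq_zero fun i _ => hne i)
    have := (h01 i).resolve_left hi
    exact ⟨i, fun p => congrFun (congrArg Subtype.val this) ⟨p, trivial⟩⟩
  choose φ hφ using key
  refine ⟨φ, fun p g e => ?_⟩
  have h2 : Pi.single (φ e) (g (φ e)) = Pi.single (φ e) (1 : X.ring p) * g := by
    ext j
    rcases eq_or_ne j (φ e) with rfl | hj <;> simp [*]
  calc f p g e = f p (Pi.single (φ e) 1) e * f p g e := by rw [hφ e p, one_mul]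
    _ = f p (Pi.single (φ e) (g (φ e))) e := by rw [← Pi.mul_apply, ← map_mul, ← h2]
    _ = f p (g (φ e) • Pi.single (φ e) 1) e := by rw [← Pi.single_smul']; simp
    _ = g (φ e) := by rw [map_smul, Pi.smul_apply, hφ e p, smul_eq_mul, mul_one]

end Groth.Agent.SchFin99
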